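import Cfsg.Agent.H798.T5Line
import Cfsg.Agent.H132.S5.Tools

/-!
S2274, own characteristic (helper406): the rank one row for the strong pairs.

* `psl2Equiv` : `PSL (2, F)` is the group generated by the root groups of the projective line;
* `sp2_line` : two permutations `f₁`, `f₂` of order `p` of the projective line over a field of characteristic `p`,
  permuting the root groups, are a strong pair for the group generated by the root groups (from the row of `PSL (2, F)`).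
-/

set_option autoImplicit false
set_option maxHeartbeats 400000

namespace Cfsg.Agent.H406.SRow.Line

open Cfsg.Agent.FixBN Cfsg.Agent.FixBN.RankOneL2 Cfsg.Agent.H14.CycLine Cfsg.Agent.H798.T5Line
open Cfsg.Agent.H533.T5
open scoped MatrixGroups

variable {F : Type*} [Field F]

/-- A permutation is determined by its lift. -/
theorem eq_of_lift {c d : Equiv.Perm (Option F)} {φ ψ : F ≃+* F} {T S : (F × F) ≃+ (F × F)} (h1 : Lift c φ T)
    (h2 : Lift d ψ S) (h : ∀ v, T v = S v) : c = d := by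
  apply Equiv.ext
  intro y
  obtain ⟨v, hv, rfl⟩ := pt_surj y
  rw [h1.act v hv, h2.act v hv, h]

theorem det_eq (g : SL(2, F)) : g 0 0 * g 1 1 - g 0 1 * g 1 0 = 1 := by
  have h := g.2
  rw [Matrix.det_fin_two] at h
  exact h

/-- the linear map of a matrix -/
def tg (g : SL(2, F)) : (F × F) ≃ₗ[F] (F × F) where
  toFun v := (g 0 0 * v.1 + g 0 1 * v.2, g 1 0 * v.1 + g 1 1 * v.2)
  invFun v := (g 1 1 * v.1 - g 0 1 * v.2, -(g 1 0 * v.1) + g 0 0 * v.2)
  left_inv v := by
    have h := det_eq g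
    refine Prod.ext ?_ ?_
    · show g 1 1 * (g 0 0 * v.1 + g 0 1 * v.2) - g 0 1 * (g 1 0 * v.1 + g 1 1 * v.2) = v.1
      linear_combination v.1 * h
    · show -(g 1 0 * (g 0 0 * v.1 + g 0 1 * v.2)) + g 0 0 * (g 1 0 * v.1 + g 1 1 * v.2) = v.2
      linear_combination v.2 * h
  right_inv v := by
    have h := det_eq g
    refine Prod.ext ?_ ?_
    · show g 0 0 * (g 1 1 * v.1 - g 0 1 * v.2) + g 0 1 * (-(g 1 0 * v.1) + g 0 0 * v.2) = v.1
      linear_combination v.1 * h
    · show g 1 0 * (g 1 1 * v.1 - g 0 1 * v.2) + g 1 1 * (-(g 1 0 * v.1) + g 0 0 * v.2) = v.2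
      linear_combination v.2 * h
  map_add' v w := by
    refine Prod.ext ?_ ?_
    · show g 0 0 * (v.1 + w.1) + g 0 1 * (v.2 + w.2) = g 0 0 * v.1 + g 0 1 * v.2 + (g 0 0 * w.1 + g 0 1 * w.2)
      ring
    · show g 1 0 * (v.1 + w.1) + g 1 1 * (v.2 + w.2) = g 1 0 * v.1 + g 1 1 * v.2 + (g 1 0 * w.1 + g 1 1 * w.2)
      ring
  map_smul' a v := by
    refine Prod.ext ?_ ?_
    · show g 0 0 * (a * v.1) + g 0 1 * (a * v.2) = a * (g 0 0 * v.1 + g 0 1 * v.2)
      ring
    · show g 1 0 * (a * v.1) + g 1 1 * (a * v.2) = a * (g 1 0 * v.1 + g 1 1 * v.2)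
      ring

theorem tg_apply (g : SL(2, F)) (v : F × F) :
    tg g v = (g 0 0 * v.1 + g 0 1 * v.2, g 1 0 * v.1 + g 1 1 * v.2) := rfl

theorem tg_mul (g h : SL(2, F)) (v : F × F) : tg (g * h) v = tg g (tg h v) := by
  have e : ∀ i j, (g * h) i j = g i 0 * h 0 j + g i 1 * h 1 j := by
    intro i j
    rw [Matrix.SpecialLinearGroup.coe_mul, Matrix.mul_apply, Fin.sum_univ_two]
  rw [tg_apply, tg_apply, tg_apply, e, e, e, e]
  refine Prod.ext ?_ ?_
  · show (g 0 0 * h 0 0 + g 0 1 * h 1 0) * v.1 + (g 0 0 * h 0 1 + g 0 1 * h 1 1) * v.2 =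
      g 0 0 * (h 0 0 * v.1 + h 0 1 * v.2) + g 0 1 * (h 1 0 * v.1 + h 1 1 * v.2)
    ring
  · show (g 1 0 * h 0 0 + g 1 1 * h 1 0) * v.1 + (g 1 0 * h 0 1 + g 1 1 * h 1 1) * v.2 =
      g 1 0 * (h 0 0 * v.1 + h 0 1 * v.2) + g 1 1 * (h 1 0 * v.1 + h 1 1 * v.2)
    ring

theorem om_tg (g : SL(2, F)) : om (tg g (1, 0)) (tg g (0, 1)) = 1 := by
  have h := det_eq g
  show (g 0 0 * 1 + g 0 1 * 0) * (g 1 0 * 0 + g 1 1 * 1) - (g 1 0 * 1 + g 1 1 * 0) * (g 0 0 * 0 + g 0 1 * 1) = 1
  linear_combination h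

/-- the permutation of the projective line -/
noncomputable def rhoFun (g : SL(2, F)) : ↥(psl2 F) :=
  ⟨(exists_of_sl (om_tg g)).choose, (exists_of_sl (om_tg g)).choose_spec.1⟩

theorem rhoFun_lift (g : SL(2, F)) :
    Lift (rhoFun g : Equiv.Perm (Option F)) (RingEquiv.refl F) (tg g).toAddEquiv :=
  (exists_of_sl (om_tg g)).choose_spec.2

/-- The homomorphism. -/
noncomputable def rho : SL(2, F) →* ↥(psl2 F) :=
  MonoidHom.mk' rhoFun fun g h => by
    apply Subtype.ext
    exact eq_of_lift (rhoFun_lift (g * h)) ((rhoFun_lift g).mul (rhoFun_lift h)) fun v => tg_mul g h v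

theorem rho_lift (g : SL(2, F)) :
    Lift (rho g : Equiv.Perm (Option F)) (RingEquiv.refl F) (tg g).toAddEquiv := rhoFun_lift g

theorem rho_surjective : Function.Surjective (rho (F := F)) := by
  rintro ⟨m, hm⟩
  obtain ⟨T, hT, hL⟩ := lift_psl2 hm
  have hdet : (T (1, 0)).1 * (T (0, 1)).2 - (T (1, 0)).2 * (T (0, 1)).1 = 1 := by
    have := hT (1, 0) (0, 1)
    simp only [om] at this
    rw [this]
    ring
  let g : SL(2, F) := ⟨!![(T (1, 0)).1, (T (0, 1)).1; (T (1, 0)).2, (T (0, 1)).2], by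
    rw [Matrix.det_fin_two_of]
    linear_combination hdet⟩
  refine ⟨g, Subtype.ext (eq_of_lift (rho_lift g) hL fun v => ?_)⟩
  have h1 : v = v.1 • ((1, 0) : F × F) + v.2 • ((0, 1) : F × F) := by
    ext <;> simp
  have h2 : T v = v.1 • T (1, 0) + v.2 • T (0, 1) := by
    conv_lhs => rw [h1]
    rw [map_add, hL.semi, hL.semi]
    rfl
  rw [h2]
  refine Prod.ext ?_ ?_
  · show (T (1, 0)).1 * v.1 + (T (0, 1)).1 * v.2 = v.1 * (T (1, 0)).1 + v.2 * (T (0, 1)).1
    ring
  · show (T (1, 0)).2 * v.1 + (T (0, 1)).2 * v.2 = v.1 * (T (1, 0)).2 + v.2 * (T (0, 1)).2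
    ring

theorem rho_ker : (rho (F := F)).ker = Subgroup.center SL(2, F) := by
  ext g
  rw [MonoidHom.mem_ker, Matrix.SpecialLinearGroup.mem_center_iff]
  constructor
  · intro h
    have h1 := rho_lift g
    rw [h] at h1
    obtain ⟨⟨a, -, ha⟩, -⟩ := h1.scalar
    have h10 : tg g (1, 0) = a • ((1, 0) : F × F) := ha (1, 0)
    have h01 : tg g (0, 1) = a • ((0, 1) : F × F) := ha (0, 1)
    rw [tg_apply] at h10 h01
    simp only [mul_one, mul_zero, add_zero, zero_add, Prod.smul_mk, smul_eq_mul, Prod.mk.injEq] at h10 h01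
    have hd := det_eq g
    rw [h10.1, h10.2, h01.1, h01.2] at hd
    refine ⟨a, ?_, ?_⟩
    · rw [Fintype.card_fin]
      linear_combination hd
    · ext i j
      fin_cases i <;> fin_cases j <;> simp [h10, h01]
  · rintro ⟨r, hr, hg⟩
    have hr0 : r ≠ 0 := by
      rintro rfl
      rw [Fintype.card_fin] at hr
      simp at hr
    have h00 : g 0 0 = r := by rw [← hg]; simp
    have h01 : g 0 1 = 0 := by rw [← hg]; simp
    have h10 : g 1 0 = 0 := by rw [← hg]; simp
    have h11 : g 1 1 = r := by rw [← hg]; simp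
    apply Subtype.ext
    apply Equiv.ext
    intro y
    obtain ⟨v, hv, rfl⟩ := pt_surj y
    rw [(rho_lift g).act v hv]
    have h2 : (tg g).toAddEquiv v = r • v := by
      show tg g v = r • v
      rw [tg_apply, h00, h01, h10, h11]
      refine Prod.ext ?_ ?_
      · show r * v.1 + 0 * v.2 = r * v.1
        ring
      · show 0 * v.1 + r * v.2 = r * v.2
        ring
    rw [h2, pt_smul hr0]
    rfl

/-- **`PSL (2, F)` is the group generated by the root groups of the projective line.** -/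
noncomputable def psl2Equiv : Matrix.ProjectiveSpecialLinearGroup (Fin 2) F ≃* ↥(psl2 F) :=
  (QuotientGroup.quotientMulEquivOfEq rho_ker.symm).trans
    (QuotientGroup.quotientKerEquivOfSurjective rho rho_surjective)

/-- A non-trivial permutation does not centralise the root groups. -/
theorem exists_not_comm {f : Equiv.Perm (Option F)} (n : f ≠ 1) : ∃ r ∈ ⨆ y, lineFam F y, ¬ Commute r f := by
  obtain ⟨y, hy⟩ : ∃ y, f y ≠ y := by
    by_contra hcon
    push Not at hcon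
    exact n (Equiv.ext hcon)
  refine ⟨toPt y * tr 1 * (toPt y)⁻¹, Subgroup.mem_iSup_of_mem y (mem_lineFam.2 ⟨1, rfl⟩), fun h => hy ?_⟩
  have h1 : (toPt y * tr 1 * (toPt y)⁻¹ : Equiv.Perm (Option F)) y = y := lineFam_fix (mem_lineFam.2 ⟨1, rfl⟩)
  have h2 : (toPt y * tr 1 * (toPt y)⁻¹ : Equiv.Perm (Option F)) (f y) = f y := by
    have h3 := congrArg (fun e : Equiv.Perm (Option F) => e y) h.eq
    change (toPt y * tr 1 * (toPt y)⁻¹ : Equiv.Perm (Option F)) (f y) =
      f ((toPt y * tr 1 * (toPt y)⁻¹ : Equiv.Perm (Option F)) y) at h3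
    rw [h3, h1]
  have h3 : (tr 1 : Equiv.Perm (Option F)) ((toPt y)⁻¹ (f y)) = (toPt y)⁻¹ (f y) := by
    apply (toPt y).injective
    have h4 : toPt y ((toPt y)⁻¹ (f y)) = f y := (toPt y).apply_symm_apply _
    rw [h4]
    exact h2
  have h4 : (toPt y)⁻¹ (f y) = none := by
    rcases h5 : (toPt y)⁻¹ (f y) with _ | t
    · rfl
    · exfalso
      rw [h5, tr_some] at h3
      have h6 := Option.some_injective _ h3
      simp at h6
  have h5 : toPt y ((toPt y)⁻¹ (f y)) = f y := (toPt y).apply_symm_apply _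
  rw [← h5, h4, toPt_apply]

/-- **The rank one row**, own characteristic. -/
theorem sp2_line {p : ℕ} (hp : p.Prime) (hrow : SRow p (Matrix.ProjectiveSpecialLinearGroup (Fin 2) F))
    {f₁ f₂ : Equiv.Perm (Option F)}
    (h₁ : f₁ ∈ famStab (lineFam F)) (h₂ : f₂ ∈ famStab (lineFam F)) (o₁ : f₁ ^ p = 1) (o₂ : f₂ ^ p = 1)
    (n₁ : f₁ ≠ 1) (n₂ : f₂ ≠ 1) : SPair p (⨆ y, lineFam F y) f₁ f₂ := by
  have := Fact.mk hp
  have h3 : SRow p ↥(⨆ y, lineFam F y : Subgroup (Equiv.Perm (Option F))) := by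
    rw [iSup_lineFam]
    exact Cfsg.Agent.H897.T5Sub.SRow.congr psl2Equiv hrow
  exact Cfsg.Agent.H132.S5.spair_of_simple hp le_rfl h3 (orderOf_eq_prime o₁ n₁) (orderOf_eq_prime o₂ n₂)
    (famStab_le_normalizer _ h₁) (famStab_le_normalizer _ h₂) (exists_not_comm n₁) (exists_not_comm n₂)

end Cfsg.Agent.H406.SRow.Line
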