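import Cfsg.Agent.H798.T5Pan
import Cfsg.Agent.H406.SRow.Line

/-!
S2274, own characteristic (helper406): panels and strong pairs.

* `SP2 p fam` : two permutations of order `p` permuting the family are a strong pair; `SP2.map`, `sp2_pan`;
* `spair_pan`, `spair_of_tp` : a common type.
-/

set_option autoImplicit false
set_option linter.unusedSectionVars false
set_option maxHeartbeats 400000

namespace Cfsg.Agent.H406.SRow.Pan

open Cfsg Subgroup Cfsg.Agent.LieExceptional.BNPairCore Cfsg.Agent.Tits.Core Cfsg.Agent.Tits.Core.Bldg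
  Cfsg.Agent.Tits.OfBN Cfsg.Agent.Schreier.BNSch Cfsg.Agent.Tits.OppRes Cfsg.Agent.FixBN.OfBN
open Cfsg.Agent.FixBN (Sys Split famStab mem_famStab lineFam FieldNode)
open Cfsg.Agent.FixOdd (Tw)
open Cfsg.Agent.H460.Typed Cfsg.Agent.H460.Pan Cfsg.Agent.H460.EllC Cfsg.Agent.H460.PanL
  Cfsg.Agent.H185.TypedTw Cfsg.Agent.H460.EllPan Cfsg.Agent.H460.Engine
open Cfsg.Agent.H533.T5 Cfsg.Agent.H798.T5Pan

/-- the strong rows of the groups `PSL (2, F)` in characteristic `p` -/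
def R2 (p : ℕ) : Prop :=
  ∀ (F : Type) [Field F] [Finite F] [CharP F p], SRow p (Matrix.ProjectiveSpecialLinearGroup (Fin 2) F)

section Row

variable {Om Om' : Type*}

/-- two permutations of order `p` permuting the family are a strong pair -/
def SP2 (p : ℕ) (fam : Om → Subgroup (Equiv.Perm Om)) : Prop :=
  ∀ f₁ ∈ famStab fam, ∀ f₂ ∈ famStab fam, f₁ ^ p = 1 → f₂ ^ p = 1 → f₁ ≠ 1 → f₂ ≠ 1 → SPair p (⨆ y, fam y) f₁ f₂

theorem SP2.map {p : ℕ} (e : Om ≃ Om') {U : Om → Subgroup (Equiv.Perm Om)}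
    {U' : Om' → Subgroup (Equiv.Perm Om')} (hU : ∀ y g, g ∈ U y ↔ e.permCongr g ∈ U' (e y)) (h : SP2 p U) :
    SP2 p U' := by
  set F : Equiv.Perm Om ≃* Equiv.Perm Om' := e.permCongrHom with hF
  have hfa : ∀ g, F g = e.permCongr g := fun g => rfl
  have hcy : ∀ (c : Equiv.Perm Om) y, (F c) (e y) = e (c y) := fun c y => by
    show e (c (e.symm (e y))) = e (c y)
    rw [e.symm_apply_apply]
  have hst : ∀ f, F f ∈ famStab U' → f ∈ famStab U := by
    intro f hf y g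
    have := hf (e y) (F g)
    rwa [hcy, ← map_mul, ← map_inv, ← map_mul, hfa, hfa, ← hU, ← hU] at this
  have hsup : (⨆ y, U y).map F.toMonoidHom ≤ ⨆ y, U' y := by
    rw [Subgroup.map_le_iff_le_comap]
    refine iSup_le fun y g hg => ?_
    rw [Subgroup.mem_comap]
    exact Subgroup.mem_iSup_of_mem (e y) ((hU y g).1 hg)
  intro f₁' h1 f₂' h2 o1 o2 n1 n2
  obtain ⟨f₁, rfl⟩ := F.surjective f₁'
  obtain ⟨f₂, rfl⟩ := F.surjective f₂'
  have hone : ∀ f : Equiv.Perm Om, F f = 1 ↔ f = 1 := fun f => by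
    rw [← map_one F, F.injective.eq_iff]
  have := h f₁ (hst _ h1) f₂ (hst _ h2) (by rwa [← map_pow, hone] at o1) (by rwa [← map_pow, hone] at o2)
    (fun h3 => n1 ((hone _).2 h3)) (fun h3 => n2 ((hone _).2 h3))
  exact (this.of_injective F.toMonoidHom F.injective).mono hsup

end Row

variable {K : Type*} [Group K] [Finite K] {ℓ : ℕ} [Fact ℓ.Prime] {l : ℕ} {M : CoxeterMatrix (Fin l)} {Q : Fin l → ℕ}

/-- the panels over fields, in the defining characteristic -/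
theorem sp2_pan (hR : R2 ℓ) (E : Eng ℓ K M Q) {i : Fin l} (h : FNode E.P E.U (E.e i : K) (Q i)) (x : K ⧸ E.P.B) :
    SP2 ℓ (E.sys.fam i x) := by
  induction x using QuotientGroup.induction_on with
  | _ g =>
  obtain ⟨V, Nd, F, _, _, hQ, ⟨N⟩⟩ := h
  have hch : CharP F ℓ := by
    -- `F` embeds in a group of exponent a power of `ℓ`
    obtain ⟨r, hr⟩ := CharP.exists F
    have hrp : r.Prime := CharP.char_is_prime F r
    have h1 : ∀ (n : ℕ) (a : F), N.x (n • a) = (N.x a) ^ n := by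
      intro n a
      induction n with
      | zero => rw [zero_smul, pow_zero]; exact N.x_zero
      | succ n ih => rw [succ_nsmul, N.add, ih, pow_succ]
    obtain ⟨n, hn⟩ := E.S.isP ⟨N.x 1, N.mem 1⟩
    have h2 : (N.x 1) ^ ℓ ^ n = 1 := by simpa using congrArg Subtype.val hn
    rw [← h1] at h2
    have h3 : ((ℓ ^ n : ℕ) : F) = 0 := by
      rw [← nsmul_one]
      exact N.ne _ (by rw [h2]; exact one_mem _)
    rw [CharP.cast_eq_zero_iff F r] at h3
    have h4 := (Nat.prime_dvd_prime_iff_eq hrp Fact.out).1 (hrp.dvd_of_dvd_pow h3)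
    rwa [← h4]
  exact SP2.map _ (H14.CycNode.iso_mk E.S E.e E.cs E.hcs i Nd N g fun y f => Iff.rfl)
    (fun f₁ h1 f₂ h2 => Line.sp2_line Fact.out (hR F) h1 h2)

variable {E : Eng ℓ K M Q}

/-- The pairs of an automorphism and its action on the chambers, preserving the set `V` of chambers. -/
def AV (E : Eng ℓ K M Q) (V : Set (K ⧸ E.P.B)) : Subgroup (MulAut K × Equiv.Perm (K ⧸ E.P.B)) where
  carrier := {a | Act E a.1 a.2 ∧ ∀ z, z ∈ V ↔ a.2 z ∈ V}
  one_mem' := ⟨Act.one, fun _ => Iff.rfl⟩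
  mul_mem' := fun {a b} ha hb => ⟨ha.1.mul hb.1, fun z => (hb.2 z).trans (ha.2 _)⟩
  inv_mem' := fun {a} ha => ⟨ha.1.inv, fun z => by
    have h1 := ha.2 (a.2⁻¹ z)
    have h2 : a.2 (a.2⁻¹ z) = z := a.2.apply_symm_apply z
    rw [h2] at h1
    exact h1.symm⟩

/-- the automorphism -/
def piA (E : Eng ℓ K M Q) (V : Set (K ⧸ E.P.B)) : ↥(AV E V) →* MulAut K :=
  (MonoidHom.fst (MulAut K) (Equiv.Perm (K ⧸ E.P.B))).comp (AV E V).subtype

theorem piA_injective (E : Eng ℓ K M Q) (V : Set (K ⧸ E.P.B)) : Function.Injective (piA E V) := by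
  rw [injective_iff_map_eq_one]
  rintro ⟨⟨x, θ⟩, h1, h2⟩ hx
  have hx' : x = 1 := hx
  subst hx'
  have h3 : θ = 1 := h1.eq_one
  subst h3
  rfl

/-- the restriction to `V` -/
def rhoV (E : Eng ℓ K M Q) (V : Set (K ⧸ E.P.B)) : ↥(AV E V) →* Equiv.Perm V where
  toFun a := a.1.2.subtypePerm fun z => (a.2.2 z).symm
  map_one' := by
    ext z
    rfl
  map_mul' a b := by
    ext z
    rfl

/-- **Two automorphisms acting non-trivially on a panel of a common fixed chamber.** -/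
theorem spair_pan {x y : MulAut K} {θ η : Equiv.Perm (K ⧸ E.P.B)} (hx : Act E x θ) (hy : Act E y η)
    (ox : x ^ ℓ = 1) (oy : y ^ ℓ = 1) {c : K ⧸ E.P.B} (hxc : θ c = c) (hyc : η c = c) {i : Fin l}
    (hnx : ∃ z ∈ E.Δ.Pan i c, θ z ≠ z) (hny : ∃ z ∈ E.Δ.Pan i c, η z ≠ z) (hP : SP2 ℓ (E.sys.fam i c)) :
    SPair ℓ (MulAut.conj : K →* MulAut K).range x y := by
  let f₁ : Equiv.Perm (E.Δ.Pan i c) := θ.subtypePerm fun z => (hx.mem_pan hxc i z).symm
  let f₂ : Equiv.Perm (E.Δ.Pan i c) := η.subtypePerm fun z => (hy.mem_pan hyc i z).symm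
  have hf₁ : ∀ z, (f₁ z : K ⧸ E.P.B) = θ z := fun z => rfl
  have hf₂ : ∀ z, (f₂ z : K ⧸ E.P.B) = η z := fun z => rfl
  have o1 : f₁ ^ ℓ = 1 := by
    ext z
    rw [restr_pow hf₁, hx.pow_eq_one ox]
    rfl
  have o2 : f₂ ^ ℓ = 1 := by
    ext z
    rw [restr_pow hf₂, hy.pow_eq_one oy]
    rfl
  have n1 : f₁ ≠ 1 := by
    obtain ⟨z, hz, h⟩ := hnx
    intro h1
    apply h
    have := hf₁ ⟨z, hz⟩
    rw [h1] at this
    exact this.symm
  have n2 : f₂ ≠ 1 := by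
    obtain ⟨z, hz, h⟩ := hny
    intro h1
    apply h
    have := hf₂ ⟨z, hz⟩
    rw [h1] at this
    exact this.symm
  have hpair := hP f₁ (hx.famStab hf₁) f₂ (hy.famStab hf₂) o1 o2 n1 n2
  let V : Set (K ⧸ E.P.B) := E.Δ.Pan i c
  let a : ↥(AV E V) := ⟨(x, θ), hx, fun z => hx.mem_pan hxc i z⟩
  let b : ↥(AV E V) := ⟨(y, η), hy, fun z => hy.mem_pan hyc i z⟩
  let S : Subgroup ↥(AV E V) := (MulAut.conj : K →* MulAut K).range.comap (piA E V)
  have hT : (⨆ z, E.sys.fam i c z) ≤ S.map (rhoV E V) := by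
    intro m hm
    obtain ⟨k, hk⟩ := (iSup_le fun z => fam_le_ActG E.sys z) hm
    have hV : ∀ z, z ∈ V ↔ (MulAction.toPerm k : Equiv.Perm (K ⧸ E.P.B)) z ∈ V := by
      intro z
      constructor
      · intro hz
        have h1 := (m ⟨z, hz⟩).2
        rw [hk] at h1
        exact h1
      · intro hz
        have h1 : m (m⁻¹ ⟨_, hz⟩) = ⟨_, hz⟩ := m.apply_symm_apply _
        have h2 := congrArg Subtype.val h1
        rw [hk] at h2
        have h3 : ((m⁻¹ ⟨_, hz⟩ : E.Δ.Pan i c) : K ⧸ E.P.B) = z := MulAction.injective k h2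
        rw [← h3]
        exact (m⁻¹ ⟨_, hz⟩ : E.Δ.Pan i c).2
    refine ⟨⟨(MulAut.conj k, MulAction.toPerm k), Act.inner k, hV⟩, ⟨k, rfl⟩, ?_⟩
    ext z
    exact (hk z).symm
  have h1 : SPair ℓ S a b := SPair.of_hom Fact.out (rhoV E V) hT hpair
  have h2 := h1.of_injective (piA E V) (piA_injective E V)
  refine h2.mono ?_
  rintro _ ⟨s, hs, rfl⟩
  exact hs

/-- **A common type.** -/
theorem spair_of_tp (hR : R2 ℓ) {i : Fin l} (hF : FNode E.P E.U (E.e i : K) (Q i)) {x y : MulAut K} (hx : TP E x i)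
    (hy : TP E y i) (ox : x ^ ℓ = 1) (oy : y ^ ℓ = 1) : SPair ℓ (MulAut.conj : K →* MulAut K).range x y := by
  obtain ⟨θ, hθ, c, hc, z, hz, hz'⟩ := hx
  obtain ⟨η, hη, d, hd, w, hw, hw'⟩ := hy
  obtain ⟨g, rfl⟩ : ∃ g : K, g • d = c := by
    obtain ⟨a, rfl⟩ := QuotientGroup.mk_surjective c
    obtain ⟨b, rfl⟩ := QuotientGroup.mk_surjective d
    exact ⟨a * b⁻¹, by rw [smul_mk, inv_mul_cancel_right]⟩
  refine SPair.conj_right (s := MulAut.conj g) ⟨g, rfl⟩ ?_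
  have h1 : Act E (MulAut.conj g * y * (MulAut.conj g)⁻¹) (MulAction.toPerm g * η * (MulAction.toPerm g)⁻¹) :=
    ((Act.inner g).mul hη).mul (Act.inner g).inv
  have h2 : ∀ a, (MulAction.toPerm g * η * (MulAction.toPerm g)⁻¹ : Equiv.Perm (K ⧸ E.P.B)) (g • a) = g • η a := by
    intro a
    rw [Equiv.Perm.mul_apply, Equiv.Perm.mul_apply]
    have : (MulAction.toPerm g)⁻¹ (g • a) = a := (MulAction.toPerm g).symm_apply_apply a
    rw [this]
    rfl
  refine spair_pan hθ h1 ox ?_ hc (by rw [h2, hd]) ⟨z, hz, hz'⟩ ⟨g • w, ?_, ?_⟩ (sp2_pan hR E hF _)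
  · rw [conj_pow, oy, mul_one, mul_inv_cancel]
  · have h3 := (Act.inner (E := E) g).iso d w
    rw [E.Δ.Pan_eq_Res, mem_Res] at hw ⊢
    rw [← h3] at hw
    exact hw
  · rw [h2]
    intro h3
    exact hw' (MulAction.injective g h3)

end Cfsg.Agent.H406.SRow.Pan
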